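import Groth.Agent.FibDim.BaseField
import Groth.Agent.FibDim.Semicont
import Groth.Agent.FibDim.AffineSpaceFibre
import Groth.Agent.ProConsLib.Image

/-! dimensions of locally closed sets in schemes of finite type over a field -/

set_option autoImplicit false
set_option linter.style.haveILetI false
set_option linter.unusedSectionVars false

universe u

open AlgebraicGeometry CategoryTheory CategoryTheory.Limits Topology Groth.Agent.FibDim

namespace Groth.Agent.CharCycDim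

variable {X Y S : Scheme.{u}}

/-- a bound on the supremum of naturals after adding a natural -/
theorem iSup_add_le_iff {ι : Sort*} (d : ι → ℕ) (c n : ℕ) :
    (⨆ i, ((d i : ℕ∞) : WithBot ℕ∞)) + (c : WithBot ℕ∞) ≤ (n : WithBot ℕ∞) ↔ ∀ i, d i + c ≤ n := by
  constructor
  · intro h i
    have h1 : ((d i : ℕ∞) : WithBot ℕ∞) + (c : WithBot ℕ∞) ≤ (n : WithBot ℕ∞) :=
      (add_le_add_left (le_iSup (fun i => ((d i : ℕ∞) : WithBot ℕ∞)) i) _).trans h
    exact_mod_cast h1
  · intro h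
    rcases isEmpty_or_nonempty ι with hι | ⟨⟨i⟩⟩
    · rw [iSup_of_empty, WithBot.bot_add]
      exact bot_le
    · have hc : c ≤ n := (Nat.le_add_left c (d i)).trans (h i)
      have h1 : (⨆ j, ((d j : ℕ∞) : WithBot ℕ∞)) ≤ ((n - c : ℕ) : WithBot ℕ∞) :=
        iSup_le fun j => WithBot.coe_le_coe.2 (Nat.cast_le.2 (show d j ≤ n - c by have := h j; omega))
      refine (add_le_add_left h1 _).trans ?_
      exact_mod_cast (show n - c + c ≤ n by omega)

/-- the supremum commutes with adding a natural -/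
theorem iSup_nat_add {ι : Sort*} (d : ι → ℕ) (c : ℕ) :
    (⨆ i, ((d i + c : ℕ) : WithBot ℕ∞)) = (⨆ i, ((d i : ℕ∞) : WithBot ℕ∞)) + (c : WithBot ℕ∞) := by
  rcases isEmpty_or_nonempty ι with hι | hι
  · rw [iSup_of_empty, iSup_of_empty, WithBot.bot_add]
  refine le_antisymm (iSup_le fun i => ?_) ?_
  · push_cast
    exact add_le_add_left (le_iSup (fun i => ((d i : ℕ∞) : WithBot ℕ∞)) i) _
  · by_cases hb : ∃ m, ∀ i, d i ≤ m
    · obtain ⟨j, hj⟩ : ∃ j, ∀ i, d i ≤ d j := by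
        obtain ⟨m, hm⟩ := hb
        obtain ⟨j, hj⟩ := Nat.sSup_mem (s := Set.range d) (Set.range_nonempty d) ⟨m, by rintro _ ⟨i, rfl⟩; exact hm i⟩
        exact ⟨j, fun i => hj ▸ le_csSup ⟨m, by rintro _ ⟨i, rfl⟩; exact hm i⟩ ⟨i, rfl⟩⟩
      refine le_trans ?_ (le_iSup (fun i => ((d i + c : ℕ) : WithBot ℕ∞)) j)
      push_cast
      refine add_le_add_left (iSup_le fun i => ?_) _
      exact_mod_cast hj i
    · push Not at hb
      have htop : (⨆ i, ((d i + c : ℕ) : WithBot ℕ∞)) = (((⊤ : ℕ∞)) : WithBot ℕ∞) := by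
        refine le_antisymm le_top ?_
        refine le_of_forall_lt fun b hb' => ?_
        rcases b with _ | b
        · obtain ⟨i⟩ := hι
          exact (WithBot.bot_lt_coe _).trans_le (le_iSup (fun i => ((d i + c : ℕ) : WithBot ℕ∞)) i)
        · obtain ⟨m, rfl⟩ := ENat.ne_top_iff_exists.1 (WithBot.coe_lt_coe.1 hb').ne
          obtain ⟨i, hi⟩ := hb m
          refine lt_of_lt_of_le ?_ (le_iSup (fun i => ((d i + c : ℕ) : WithBot ℕ∞)) i)
          exact WithBot.coe_lt_coe.2 (Nat.cast_lt.2 (Nat.lt_add_right c hi))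
      rw [htop]
      exact le_top

variable (q : X ⟶ S) [LocallyOfFiniteType q] [Subsingleton S]

/-- the dimension of a locally closed set -/
theorem dim_eq_iSup {Z : Set X} (hZ : IsLocallyClosed Z) :
    topologicalKrullDim ↥Z = ⨆ z : ↥Z, ((rd q z.1 : ℕ∞) : WithBot ℕ∞) := by
  rcases Set.eq_empty_or_nonempty Z with rfl | ⟨x, hx⟩
  · haveI : IsEmpty ↥(∅ : Set X) := Set.isEmpty_coe_sort.2 rfl
    rw [iSup_of_empty]
    exact Order.krullDim_eq_bot_iff.2 ⟨fun C => IsEmpty.false C.isIrreducible.nonempty.some⟩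
  obtain ⟨W, C, hW, hC, rfl⟩ := hZ
  have he : W ∩ C ∩ q ⁻¹' {q x} = W ∩ C :=
    Set.inter_eq_left.2 fun z _ => Subsingleton.elim (q z) (q x)
  have h := dim_inter_eq_iSup q (q x) hW hC
  rw [(Homeomorph.setCongr he).symm.isHomeomorph.topologicalKrullDim_eq, h]
  exact ((Equiv.setCongr he).iSup_congr fun z => rfl)

theorem dim_add_le_iff {Z : Set X} (hZ : IsLocallyClosed Z) (c n : ℕ) :
    topologicalKrullDim ↥Z + (c : WithBot ℕ∞) ≤ (n : WithBot ℕ∞) ↔ ∀ z ∈ Z, rd q z + c ≤ n := by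
  rw [dim_eq_iSup q hZ, iSup_add_le_iff]
  exact ⟨fun h z hz => h ⟨z, hz⟩, fun h z => h z.1 z.2⟩

theorem dim_le_iff {Z : Set X} (hZ : IsLocallyClosed Z) (n : ℕ) :
    topologicalKrullDim ↥Z ≤ (n : WithBot ℕ∞) ↔ ∀ z ∈ Z, rd q z ≤ n := by
  simpa using dim_add_le_iff q hZ 0 n

theorem le_dim {Z : Set X} (hZ : IsLocallyClosed Z) {z : X} (hz : z ∈ Z) :
    ((rd q z : ℕ∞) : WithBot ℕ∞) ≤ topologicalKrullDim ↥Z := by
  rw [dim_eq_iSup q hZ]
  exact le_iSup (fun z : ↥Z => ((rd q z.1 : ℕ∞) : WithBot ℕ∞)) ⟨z, hz⟩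

theorem dim_le_iff' (n : ℕ) : topologicalKrullDim ↥X ≤ (n : WithBot ℕ∞) ↔ ∀ x, rd q x ≤ n := by
  rw [FibDim.topologicalKrullDim_eq_iSup_rd q, iSup_le_iff]
  exact forall_congr' fun x => Nat.cast_le

theorem rd_le_of_specializes' {x x' : X} (h : x ⤳ x') : rd q x' ≤ rd q x :=
  FibDim.rd_le_of_specializes q h (Subsingleton.elim _ _)

theorem eq_of_specializes_of_rd_le {x x' : X} (h : x ⤳ x') (hle : rd q x ≤ rd q x') : x = x' := by
  by_contra hne
  exact (FibDim.rd_lt q h hne (Subsingleton.elim _ _)).not_ge hle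

/-- immersions keep the transcendence degree -/
theorem rd_immersion (i : Y ⟶ X) [IsImmersion i] (y : Y) : rd (i ≫ q) y = rd q (i y) := by
  rw [FibDim.rd_comp, rd_eq_zero_of_quasiFinite i y, add_zero]

theorem dim_range_closure_singleton (x : X) :
    topologicalKrullDim ↥(closure ({x} : Set X)) = ((rd q x : ℕ∞) : WithBot ℕ∞) :=
  FibDim.topologicalKrullDim_closure q x

/-- the set of points whose fibre has dimension at least `j` -/
theorem setOf_le_dim_fiber (f : Y ⟶ X) [LocallyOfFiniteType f] (j : ℕ) :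
    {x : X | (j : WithBot ℕ∞) ≤ topologicalKrullDim ↥(f.fiber x)} =
      f '' {y : Y | (j : WithBot ℕ∞) ≤ FlatMor.fibreDimAt f y} := by
  ext x
  rw [Set.mem_ofPred_eq, le_topologicalKrullDim_fiber_iff]
  constructor
  · rintro ⟨z, hz, hj⟩
    exact ⟨z, le_trans (by exact_mod_cast hj) (rd_le_fibreDimAt f (specializes_refl z) rfl), hz⟩
  · rintro ⟨y, hy, rfl⟩
    obtain ⟨z, -, hz, he, -⟩ := exists_fibreDimAt_eq f y
    rw [Set.mem_ofPred_eq, he] at hy
    exact ⟨z, hz, by exact_mod_cast hy⟩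

/-- points in the closure of that set are specialisations of its points -/
theorem exists_rd_of_mem_closure [IsLocallyNoetherian X] (f : Y ⟶ X) [LocallyOfFiniteType f] [CompactSpace Y]
    (j : ℕ) {x : X} (hx : x ∈ closure {x : X | (j : WithBot ℕ∞) ≤ topologicalKrullDim ↥(f.fiber x)}) :
    ∃ y : Y, f y ⤳ x ∧ j ≤ rd f y := by
  rw [setOf_le_dim_fiber] at hx
  haveI : QuasiSeparatedSpace ↥X := inferInstance
  have hc : ProCons.IsProConstructible {y : Y | (j : WithBot ℕ∞) ≤ FlatMor.fibreDimAt f y} :=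
    ProConsLib.isProConstructible_of_isLocallyClosed (isClosed_le_fibreDimAt f j).isLocallyClosed
      fun V hV => hV.isCompact.inter_left (isClosed_le_fibreDimAt f j)
  obtain ⟨y, hy, hyx⟩ := ProConsLib.exists_specializes_of_mem_closure_image_scheme hc f hx
  obtain ⟨z, hz, hj⟩ := (le_topologicalKrullDim_fiber_iff f (f y) j).1
    ((setOf_le_dim_fiber f j).symm.le ⟨y, hy, rfl⟩ : f y ∈ {x : X | (j : WithBot ℕ∞) ≤ topologicalKrullDim ↥(f.fiber x)})
  exact ⟨z, hz ▸ hyx, hj⟩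

end Groth.Agent.CharCycDim
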