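import Groth.Agent.CharCycDim.Basic
import Groth.Agent.VarDim.Local
import Mathlib.RingTheory.Ideal.KrullsHeightTheorem
import Mathlib.AlgebraicGeometry.Morphisms.QuasiCompact
import Mathlib.AlgebraicGeometry.Morphisms.ClosedImmersion
import Mathlib.RingTheory.Regular.RegularSequence

/-! cutting a component by few equations -/

set_option autoImplicit false
set_option linter.style.haveILetI false
set_option linter.unusedSectionVars false

universe u

open AlgebraicGeometry CategoryTheory CategoryTheory.Limits Topology Groth.Agent.FibDim Order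

namespace Groth.Agent.CharCycDim

variable {k : Type u} [Field k] {X W : Scheme.{u}}

/-- the two notions of transcendence degree agree -/
theorem deg_eq_rd (q : X ⟶ Spec (CommRingCat.of k)) [LocallyOfFiniteType q] (x : X) :
    VarDim.deg q x = rd q x := by
  have h := (VarDim.topologicalKrullDim_closure_singleton q x).symm.trans
    (dim_range_closure_singleton q x)
  exact_mod_cast h

/-- a minimal prime over a prime and few elements loses little dimension -/
theorem coheight_le_add {A : Type u} [CommRing A] [Algebra k A] [Algebra.FiniteType k A]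
    (p m : PrimeSpectrum A) (s : Finset A) (hm : m.asIdeal ∈ (p.asIdeal ⊔ Ideal.span (s : Set A)).minimalPrimes) :
    coheight p ≤ coheight m + s.card := by
  classical
  let π : A →+* A ⧸ p.asIdeal := Ideal.Quotient.mk _
  have hπ : Function.Surjective π := Ideal.Quotient.mk_surjective
  have hker : RingHom.ker π = p.asIdeal := Ideal.mk_ker
  have hpm : p.asIdeal ≤ m.asIdeal := le_sup_left.trans hm.1.2
  haveI : (m.asIdeal.map π).IsPrime := Ideal.map_isPrime_of_surjective hπ (hker.trans_le hpm)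
  let m' : PrimeSpectrum (A ⧸ p.asIdeal) := ⟨m.asIdeal.map π, inferInstance⟩
  have hcm : (m.asIdeal.map π).comap π = m.asIdeal := by
    rw [Ideal.comap_map_of_surjective π hπ, ← RingHom.ker_eq_comap_bot, hker, sup_eq_left.2 hpm]
  have hmin : m'.asIdeal ∈ (Ideal.span ((s.image π : Finset (A ⧸ p.asIdeal)) : Set (A ⧸ p.asIdeal))).minimalPrimes := by
    rw [Finset.coe_image, ← Ideal.map_span]
    refine ⟨⟨inferInstance, Ideal.map_mono (le_sup_right.trans hm.1.2)⟩, fun J hJ hJm => ?_⟩
    haveI := hJ.1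
    have h1 : p.asIdeal ⊔ Ideal.span (s : Set A) ≤ J.comap π :=
      sup_le (hker.symm.trans_le (Ideal.ker_le_comap π)) (Ideal.map_le_iff_le_comap.1 hJ.2)
    have h2 := hm.2 ⟨inferInstance, h1⟩ ((Ideal.comap_mono hJm).trans hcm.le)
    exact (Ideal.map_mono h2).trans Ideal.map_comap_le
  haveI : IsNoetherianRing A := Algebra.FiniteType.isNoetherianRing k A
  have h1 : height m' ≤ (s.card : ℕ∞) := by
    have h := Ideal.height_le_card_of_mem_minimalPrimes_span_finset hmin
    rw [PrimeSpectrum.height_eq_orderHeight m'] at h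
    exact h.trans (Nat.cast_le.2 Finset.card_image_le)
  have h2 : coheight m' = coheight m := WithBot.coe_injective <| by
    rw [VarDim.coheight_eq_ringKrullDim_quotient, VarDim.coheight_eq_ringKrullDim_quotient]
    exact ringKrullDim_eq_of_ringEquiv (DoubleQuot.quotQuotEquivQuotOfLE hpm)
  obtain ⟨n, hn, -⟩ := VarDim.exists_dim_eq_trdeg k (A ⧸ p.asIdeal)
  have h3 : coheight p = (n : ℕ∞) := WithBot.coe_injective ((VarDim.coheight_eq_ringKrullDim_quotient p).trans hn)
  rw [h3, ← VarDim.height_add_coheight_eq k n _ hn m', h2, add_comm]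
  exact add_le_add_right h1 _

/-- a point minimal among the common zeros of `c` sections loses at most `c` dimensions -/
theorem rd_le_add_of_minimal (q : X ⟶ Spec (CommRingCat.of k)) [LocallyOfFiniteType q] {V : X.Opens}
    (hV : IsAffineOpen V) (rs : List Γ(X, V)) {ξ η : X} (hη : η ∈ V) (hξη : ξ ⤳ η)
    (hz : η ∈ X.zeroLocus (U := V) (Ideal.ofList rs))
    (hmin : ∀ z ∈ V, ξ ⤳ z → z ∈ X.zeroLocus (U := V) (Ideal.ofList rs) → z ⤳ η → z = η) :
    rd q ξ ≤ rd q η + rs.length := by
  classical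
  obtain ⟨_, hft⟩ := VarDim.exists_algebra q hV
  obtain ⟨p, rfl⟩ := VarDim.exists_fromSpec_eq hV (hξη.mem_open V.2 hη)
  obtain ⟨m, rfl⟩ := VarDim.exists_fromSpec_eq hV hη
  have hsz : ∀ r : PrimeSpectrum Γ(X, V), hV.fromSpec r ∈ X.zeroLocus (U := V) (Ideal.ofList rs) ↔
      Ideal.ofList rs ≤ r.asIdeal := fun r => Set.ext_iff.1 (hV.fromSpec_preimage_zeroLocus _) r
  have hm : m.asIdeal ∈ (p.asIdeal ⊔ Ideal.span (rs.toFinset : Set Γ(X, V))).minimalPrimes := by
    have hl : Ideal.span (rs.toFinset : Set Γ(X, V)) = Ideal.ofList rs := by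
      rw [List.coe_toFinset]
    rw [hl]
    refine ⟨⟨m.isPrime, sup_le ((VarDim.fromSpec_specializes_iff hV p m).1 hξη) ((hsz m).1 hz)⟩, fun J hJ hJm => ?_⟩
    let j : PrimeSpectrum Γ(X, V) := ⟨J, hJ.1⟩
    have h := hmin (hV.fromSpec j) (VarDim.fromSpec_mem hV j)
      ((VarDim.fromSpec_specializes_iff hV p j).2 (le_sup_left.trans hJ.2)) ((hsz j).2 (le_sup_right.trans hJ.2))
      ((VarDim.fromSpec_specializes_iff hV j m).2 hJm)
    exact (congrArg PrimeSpectrum.asIdeal (hV.fromSpec.isOpenEmbedding.injective h)).ge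
  have h := (coheight_le_add (k := k) p m _ hm).trans
    (add_le_add_right (Nat.cast_le.2 rs.toFinset_card_le : (rs.toFinset.card : ℕ∞) ≤ (rs.length : ℕ∞)) _)
  rw [VarDim.deg_eq_coheight q hV, VarDim.deg_eq_coheight q hV, deg_eq_rd, deg_eq_rd] at h
  exact_mod_cast h

/-- the range of an immersion closed over an affine open is the zero locus of its kernel there -/
theorem range_inter_eq_zeroLocus (i : W ⟶ X) {U : X.Opens} (hU : IsAffineOpen U) [IsClosedImmersion (i ∣_ U)]
    {x : X} (hx : x ∈ U) : x ∈ Set.range i ↔ x ∈ X.zeroLocus (U := U) (RingHom.ker (i.app U).hom) := by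
  rw [Scheme.mem_zeroLocus_iff]
  constructor
  · rintro ⟨w, rfl⟩ r hr hw
    have : w ∈ i ⁻¹ᵁ X.basicOpen r := hw
    rwa [Scheme.preimage_basicOpen, RingHom.mem_ker.mp hr, Scheme.basicOpen_zero] at this
  · intro h
    by_contra hni
    have hcl : IsClosed (Set.range (i ∣_ U)) := (i ∣_ U).isClosedEmbedding.isClosed_range
    let O : X.Opens := ⟨U.ι '' (Set.range (i ∣_ U))ᶜ, U.ι.isOpenEmbedding.isOpenMap _ hcl.isOpen_compl⟩
    have hxO : x ∈ O := ⟨⟨x, hx⟩, fun ⟨w, hw⟩ => hni ⟨w.1,
      (morphismRestrict_base_coe i U w).symm.trans (congrArg Subtype.val hw)⟩, rfl⟩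
    obtain ⟨r, hr, hxr⟩ := hU.exists_basicOpen_le (V := O) ⟨x, hxO⟩ hx
    have hbot : W.basicOpen ((i.app U).hom r) = ⊥ := by
      rw [← Scheme.preimage_basicOpen]
      refine eq_bot_iff.2 fun w hw => ?_
      obtain ⟨y, hy, hyw⟩ := hr hw
      refine (hy ⟨⟨w, ?_⟩, Subtype.ext ?_⟩).elim
      · show i w ∈ U
        exact X.basicOpen_le r hw
      · exact (morphismRestrict_base_coe i U _).trans hyw.symm
    haveI : CompactSpace U.toScheme := isCompact_iff_compactSpace.1 hU.isCompact
    have hcpt : IsCompact ((i ⁻¹ᵁ U : W.Opens) : Set W) := by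
      haveI : CompactSpace (i ⁻¹ᵁ U).toScheme := (i ∣_ U).isClosedEmbedding.compactSpace
      exact isCompact_iff_compactSpace.2 (inferInstanceAs (CompactSpace (i ⁻¹ᵁ U).toScheme))
    obtain ⟨N, hN⟩ := (W.isNilpotent_iff_basicOpen_eq_bot_of_isCompact hcpt _).2 hbot
    refine h (r ^ (N + 1)) ?_ ?_
    · rw [SetLike.mem_coe, RingHom.mem_ker, map_pow, pow_succ, hN, zero_mul]
    · rwa [Scheme.basicOpen_pow _ _ (Nat.succ_pos N)]

end Groth.Agent.CharCycDim
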