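import Groth.Agent.CharCycDim.Strata
import Groth.Agent.ConsPropLib.FibreTop
import Mathlib.AlgebraicGeometry.Morphisms.LocalFlatDescent
import Mathlib.AlgebraicGeometry.Morphisms.UniversallyOpen

/-! dimensions of the components of the fibres of a constructible set -/

set_option autoImplicit false
set_option linter.style.haveILetI false
set_option linter.unusedSectionVars false

universe u

open AlgebraicGeometry CategoryTheory CategoryTheory.Limits Topology

namespace Groth.Agent.CharCycDim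

variable {X S : Scheme.{u}}

/-- the maximal points of the fibre of a set -/
def MaxIn (f : X ⟶ S) (Z : Set X) (s : S) : Set X :=
  {z | z ∈ Z ∧ f z = s ∧ ∀ z', z' ∈ Z → f z' = s → z' ⤳ z → z' = z}

/-- the dimensions of the components of the fibre of a set -/
noncomputable def fibDims (f : X ⟶ S) (Z : Set X) (s : S) : Set (WithBot ℕ∞) :=
  (fun z => ((FibDim.rd f z : ℕ∞) : WithBot ℕ∞)) '' MaxIn f Z s

theorem rd_fiber (f : X ⟶ S) [LocallyOfFiniteType f] (s : S) (w : ↥(f.fiber s)) :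
    FibDim.rd (f.fiberToSpecResidueField s) w = FibDim.rd f (f.fiberι s w) := by
  rw [← FibDim.deg_fiber f s w]
  exact (deg_eq_rd (k := S.residueField s) (f.fiberToSpecResidueField s) w).symm

theorem fiberι_apply (f : X ⟶ S) (s : S) (w : ↥(f.fiber s)) : f (f.fiberι s w) = s :=
  (f.range_fiberι s).le ⟨w, rfl⟩

/-- a maximal point exists above every point -/
theorem exists_maxIn (f : X ⟶ S) [LocallyOfFiniteType f] {Z : Set X} {x : X} (hx : x ∈ Z) :
    ∃ z ∈ MaxIn f Z (f x), z ⤳ x := by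
  obtain ⟨z, hzZ, hzx, hfz, hmax⟩ := FibDim.exists_max_rd f hx
  refine ⟨z, ⟨hzZ, hfz, fun z' hz' hfz' hsp => ?_⟩, hzx⟩
  by_contra hne
  exact (FibDim.rd_lt f hsp hne (hfz'.trans hfz.symm)).not_ge (hmax z' hz' (hsp.trans hzx) hfz')

theorem fibDims_baseChange {X' S' : Scheme.{u}} {f : X ⟶ S} {f' : X' ⟶ S'} {p : X' ⟶ X} {h : S' ⟶ S}
    (_sq : IsPullback p f' f h) (s' : S') (Z : Set X)
    [LocallyOfFiniteType (f.fiberToSpecResidueField (h s'))] [LocallyOfFiniteType (f'.fiberToSpecResidueField s')]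
    {e : f'.fiber s' ⟶ f.fiber (h s')}
    (he : IsPullback e (f'.fiberToSpecResidueField s') (f.fiberToSpecResidueField (h s')) (Spec.map (h.residueFieldMap s')))
    [Surjective e] (hep : e ≫ f.fiberι (h s') = f'.fiberι s' ≫ p) :
    (fun w => ((FibDim.rd (f'.fiberToSpecResidueField s') w : ℕ∞) : WithBot ℕ∞)) ''
        {w | f'.fiberι s' w ∈ p ⁻¹' Z ∧ ∀ v, f'.fiberι s' v ∈ p ⁻¹' Z → v ⤳ w → v = w} =
      (fun w => ((FibDim.rd (f.fiberToSpecResidueField (h s')) w : ℕ∞) : WithBot ℕ∞)) ''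
        {w | f.fiberι (h s') w ∈ Z ∧ ∀ v, f.fiberι (h s') v ∈ Z → v ⤳ w → v = w} := by
  haveI : Flat (Spec.map (h.residueFieldMap s')) :=
    HasRingHomProperty.Spec_iff.2 (by
      letI := (h.residueFieldMap s').hom.toAlgebra
      exact (inferInstanceAs (Module.Flat (S.residueField (h s')) (S'.residueField s'))))
  haveI : Flat e := MorphismProperty.of_isPullback he.flip inferInstance
  have hmem : ∀ v, (f'.fiberι s' v ∈ p ⁻¹' Z ↔ f.fiberι (h s') (e v) ∈ Z) := fun v => by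
    rw [Set.mem_preimage, ← Scheme.Hom.comp_apply, ← hep, Scheme.Hom.comp_apply]
  ext r
  constructor
  · rintro ⟨w, ⟨hw, hmax⟩, rfl⟩
    refine ⟨e w, ⟨(hmem w).1 hw, fun v hv hvw => ?_⟩, ?_⟩
    · obtain ⟨v', hv'w, rfl⟩ := Flat.generalizingMap e hvw
      exact congrArg e (hmax v' ((hmem v').2 hv) hv'w)
    · dsimp only
      rw [FibDim.rd_baseChange_eq_of_minimal he w fun v hvw hev _ => hmax v ((hmem v).2 (hev ▸ (hmem w).1 hw)) hvw]
  · rintro ⟨w, ⟨hw, hmax⟩, rfl⟩
    obtain ⟨w', hw', -, hrd⟩ := FibDim.exists_rd_baseChange_eq he w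
      (Classical.arbitrary (Spec (S'.residueField s'))) (Subsingleton.elim _ _)
    refine ⟨w', ⟨(hmem w').2 (hw'.symm ▸ hw), fun v hv hvw => ?_⟩, ?_⟩
    · by_contra hne
      have hev : e v = w := hmax _ ((hmem v).1 hv) (hw' ▸ hvw.map e.continuous)
      have h1 := FibDim.rd_lt (f'.fiberToSpecResidueField s') hvw hne (Subsingleton.elim _ _)
      have h2 := FibDim.rd_baseChange_le he v
      rw [hev, ← hrd] at h2
      omega
    · dsimp only
      rw [hrd]

theorem fibDims_eq (f : X ⟶ S) [LocallyOfFiniteType f] (Z : Set X) (s : S) :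
    fibDims f Z s = (fun w => ((FibDim.rd (f.fiberToSpecResidueField s) w : ℕ∞) : WithBot ℕ∞)) ''
        {w | f.fiberι s w ∈ Z ∧ ∀ v, f.fiberι s v ∈ Z → v ⤳ w → v = w} := by
  ext r
  constructor
  · rintro ⟨z, ⟨hz, hfz, hmax⟩, rfl⟩
    obtain ⟨w, rfl⟩ : z ∈ Set.range (f.fiberι s) := (f.range_fiberι s).ge hfz
    exact ⟨w, ⟨hz, fun v hv hvw => (f.fiberι s).isEmbedding.injective
      (hmax _ hv (fiberι_apply f s v) (hvw.map (f.fiberι s).continuous))⟩, by dsimp only; rw [rd_fiber]⟩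
  · rintro ⟨w, ⟨hw, hmax⟩, rfl⟩
    refine ⟨_, ⟨hw, fiberι_apply f s w, fun z hz hfz hzw => ?_⟩, by dsimp only; rw [rd_fiber]⟩
    obtain ⟨v, rfl⟩ : z ∈ Set.range (f.fiberι s) := (f.range_fiberι s).ge hfz
    exact congrArg _ (hmax v hz ((FibDim.fiberι_specializes_iff f v w).1 hzw))

/-- the locus where the dimensions are prescribed -/
def dimsLocus (Φ : Set (WithBot ℕ∞)) : ∀ ⦃X S : Scheme.{u}⦄, (X ⟶ S) → Set X → Set X → Set S :=
  fun _ _ f Z _ => {s | LocallyOfFiniteType (f.fiberToSpecResidueField s) ∧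
    (fun w => ((FibDim.rd (f.fiberToSpecResidueField s) w : ℕ∞) : WithBot ℕ∞)) ''
        {w | f.fiberι s w ∈ Z ∧ ∀ v, f.fiberι s v ∈ Z → v ⤳ w → v = w} = Φ}

theorem stable_dims (Φ : Set (WithBot ℕ∞)) : ConsPropLib.SetsStable.{u} (dimsLocus Φ) := by
  intro X X' S S' f f' p h Z Z' sq
  ext s'
  obtain ⟨e, he, hep⟩ := ConsPropLib.exists_fibre_pullback sq s'
  haveI := ConsPropLib.surjective_of_point (Spec.map (h.residueFieldMap s'))
  haveI : Surjective e := MorphismProperty.of_isPullback he.flip inferInstance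
  constructor
  · rintro ⟨h1, h2⟩
    haveI := h1
    haveI : Flat (Spec.map (h.residueFieldMap s')) :=
      HasRingHomProperty.Spec_iff.2 (by
        letI := (h.residueFieldMap s').hom.toAlgebra
        exact (inferInstanceAs (Module.Flat (S.residueField (h s')) (S'.residueField s'))))
    haveI : LocallyOfFiniteType (f.fiberToSpecResidueField (h s')) :=
      MorphismProperty.of_isPullback_of_descendsAlong (P := @LocallyOfFiniteType)
        (Q := @Surjective ⊓ @Flat ⊓ @QuasiCompact) he.flip ⟨⟨inferInstance, inferInstance⟩, inferInstance⟩ h1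
    exact ⟨inferInstance, (fibDims_baseChange sq s' Z he hep).symm.trans h2⟩
  · rintro ⟨h1, h2⟩
    haveI := h1
    haveI : LocallyOfFiniteType (f'.fiberToSpecResidueField s') := MorphismProperty.of_isPullback he inferInstance
    exact ⟨inferInstance, (fibDims_baseChange sq s' Z he hep).trans h2⟩

/-- points in the closure of a fibre of a constructible set -/
theorem exists_specializes_fibre [IsNoetherian S] [IsNoetherian X] (f : X ⟶ S) {A : Set X} (hA : IsConstructible A)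
    {s : S} {y : X} (hy : y ∈ closure (A ∩ f ⁻¹' {s})) : ∃ z, (z ∈ A ∧ f z = s) ∧ z ⤳ y := by
  haveI : SpectralSpace ↥X := {}
  let T : Set (Set X) := insert (f ⁻¹' closure {s}) ((fun O : S.Opens => (f ⁻¹ᵁ O : Set X)) '' {O | s ∈ O})
  have hT : f ⁻¹' {s} = ⋂₀ T := by
    ext x
    constructor
    · rintro hx t (rfl | ⟨O, hO, rfl⟩)
      · exact (show f x = s from hx) ▸ (subset_closure rfl : s ∈ closure {s})
      · show f x ∈ O
        exact (show f x = s from hx).symm ▸ hO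
    · intro h
      have h1 : s ⤳ f x := specializes_iff_mem_closure.2 (h _ (Set.mem_insert _ _))
      have h2 : f x ⤳ s := specializes_iff_forall_open.2 fun O hO hs =>
        h _ (Set.mem_insert_of_mem _ ⟨⟨O, hO⟩, hs, rfl⟩)
      exact (h2.antisymm h1).eq
  have hc : ProConsLib.ConsClosed (A ∩ f ⁻¹' {s}) := by
    refine ProConsLib.consClosed_inter (ProConsLib.consClosed_of_isConstructible hA) ?_
    rw [hT]
    refine ProConsLib.consClosed_sInter ?_
    rintro t (rfl | ⟨O, -, rfl⟩)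
    · exact ProConsLib.consClosed_of_isClosed (isClosed_closure.preimage f.continuous)
    · exact ProConsLib.consClosed_of_isConstructible (SpecLib.isConstructible_of_isOpen (f ⁻¹ᵁ O).2)
  obtain ⟨z, hz, hzy⟩ := hc.exists_specializes_of_mem_closure hy
  exact ⟨z, hz, hzy⟩

/-- generic constancy of the dimensions -/
theorem exists_nhd_fibDims [IsIntegral S] [IsNoetherian S] (f : X ⟶ S) [LocallyOfFiniteType f] [QuasiCompact f]
    {Z : Set X} (hZ : IsConstructible Z) :
    ∃ W : Set S, IsOpen W ∧ genericPoint S ∈ W ∧ ∀ s ∈ W, fibDims f Z s = fibDims f Z (genericPoint S) := by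
  haveI : IsLocallyNoetherian X := LocallyOfFiniteType.isLocallyNoetherian f
  haveI : CompactSpace X := QuasiCompact.compactSpace_of_compactSpace f
  haveI : IsNoetherian X := {}
  haveI : SpectralSpace ↥X := {}
  set η := genericPoint S
  have hgen : ∀ s : S, η ⤳ s := fun s => (genericPoint_spec S).specializes trivial
  have key : ∀ {A : Set X}, IsConstructible A → ∀ {y : X}, y ∈ closure A → ∃ z ∈ A, z ⤳ y := fun hA _ hy =>
    (ProConsLib.consClosed_of_isConstructible hA).exists_specializes_of_mem_closure hy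
  have hclc : ∀ z : X, IsConstructible (closure ({z} : Set X)) := fun z =>
    SpecLib.isConstructible_of_isClosed isClosed_closure
  -- finitely many maximal points
  have hfin : (MaxIn f Z η).Finite := by
    refine ((TopologicalSpace.NoetherianSpace.finite_irreducibleComponents (α := ↥(closure Z : Set X))).biUnion
      (t := fun C => {x | IsGenericPoint x (Subtype.val '' C)}) fun C _ => Set.Subsingleton.finite
        fun a ha b hb => IsGenericPoint.eq ha hb).subset fun z hz => ?_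
    let z' : ↥(closure Z : Set X) := ⟨z, subset_closure hz.1⟩
    have hC := irreducibleComponent_mem_irreducibleComponents z'
    refine Set.mem_biUnion hC ?_
    have hirr := hC.1.image Subtype.val continuous_subtype_val.continuousOn
    have hcl : IsClosed (Subtype.val '' irreducibleComponent z') :=
      isClosed_closure.isClosedEmbedding_subtypeVal.isClosedMap _ isClosed_irreducibleComponent
    have hg := hirr.isGenericPoint_genericPoint hcl
    have hgz : hirr.genericPoint ⤳ z := hg.specializes ⟨z', mem_irreducibleComponent, rfl⟩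
    obtain ⟨g', -, hg'⟩ := hg.mem
    obtain ⟨w, hw, hwg⟩ := key hZ (hg' ▸ g'.2 : hirr.genericPoint ∈ closure Z)
    have hfw : f w = η := ((((hwg.trans hgz).map f.continuous).trans (specializes_of_eq hz.2.1)).antisymm (hgen _)).eq
    have hwz := hz.2.2 w hw hfw (hwg.trans hgz)
    subst hwz
    exact (hwg.antisymm hgz).eq ▸ hg
  let M := hfin.toFinset
  have hM : ∀ z, z ∈ M ↔ z ∈ MaxIn f Z η := fun z => hfin.mem_toFinset
  -- closures of finitely many points
  have hU : ∀ t : Finset X, IsConstructible (⋃ z ∈ t, closure ({z} : Set X)) := fun t => by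
    classical
    induction t using Finset.induction with
    | empty => simp only [Finset.notMem_empty, Set.iUnion_of_empty, Set.iUnion_empty]; exact IsConstructible.empty
    | @insert a t _ ih => rw [Finset.set_biUnion_insert]; exact (hclc a).union ih
  obtain ⟨W₁, o₁, η₁, k₁⟩ := ConsPropLib.image_avoid f (hZ.sdiff (hU M)) fun x hx e => by
    obtain ⟨z, hz, hzx⟩ := exists_maxIn f hx.1
    exact hx.2 (Set.mem_iUnion₂.2 ⟨z, (hM z).2 (show z ∈ MaxIn f Z (genericPoint S) by rwa [e] at hz), hzx.mem_closure⟩)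
  classical
  have hi : ∀ z ∈ M, ∃ W : Set S, IsOpen W ∧ η ∈ W ∧
      (∀ y, z ⤳ y → f y ∈ W → (∀ y', z ⤳ y' → y' ⤳ y → f y' = f y → y' = y) → FibDim.rd f y = FibDim.rd f z) ∧
      (∀ y, z ⤳ y → f y ∈ W → y ∈ closure (Z ∩ f ⁻¹' {f y})) ∧
      (∀ y, z ⤳ y → f y ∈ W →
        y ∈ closure ((closure {z} \ ⋃ w ∈ M.erase z, closure ({w} : Set X)) ∩ f ⁻¹' {f y})) ∧
      ∀ s ∈ W, ∃ y ∈ closure ({z} : Set X), f y = s := by
    intro z hz
    obtain ⟨hzZ, hfz, hzmax⟩ := (hM z).1 hz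
    obtain ⟨Wa, oa, ηa, ka⟩ := ConsPropLib.exists_nhd_rd_eq f hfz
    obtain ⟨Wb, ob, ηb, kb⟩ := ConsPropLib.exists_nhd_closure f hZ hzZ hfz
    obtain ⟨Wc, oc, ηc, kc⟩ := ConsPropLib.exists_nhd_closure f (Z := closure {z} \ ⋃ w ∈ M.erase z, closure ({w} : Set X))
      ((hclc z).sdiff (hU _)) (z := z) ⟨subset_closure rfl, fun h => by
        obtain ⟨w, hw, hwz⟩ := Set.mem_iUnion₂.1 h
        obtain ⟨hne, hwM⟩ := Finset.mem_erase.1 hw
        obtain ⟨hwZ, hfw, -⟩ := (hM w).1 hwM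
        exact hne (hzmax w hwZ hfw (specializes_iff_mem_closure.2 hwz))⟩ hfz
    obtain ⟨Wd, od, ηd, kd⟩ := ConsPropLib.image_meet f (hclc z) (subset_closure rfl : z ∈ closure {z}) hfz
    exact ⟨Wa ∩ Wb ∩ Wc ∩ Wd, ((oa.inter ob).inter oc).inter od, ⟨⟨⟨ηa, ηb⟩, ηc⟩, ηd⟩,
      fun y h1 h2 h3 => ka y h1 h2.1.1.1 h3, fun y h1 h2 => kb y h1 h2.1.1.2, fun y h1 h2 => kc y h1 h2.1.2,
      fun s hs => kd s hs.2⟩
  choose Wz oz ηz kz1 kz2 kz3 kz4 using hi
  refine ⟨W₁ ∩ ⋂ z : M, Wz z.1 z.2, o₁.inter (isOpen_iInter_of_finite fun z => oz z.1 z.2),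
    ⟨η₁, Set.mem_iInter.2 fun z => ηz z.1 z.2⟩, fun s hs => ?_⟩
  have hsW : ∀ z (hz : z ∈ M), s ∈ Wz z hz := fun z hz => Set.mem_iInter.1 hs.2 ⟨z, hz⟩
  have hcover : ∀ y ∈ Z, f y = s → ∃ z ∈ M, z ⤳ y := fun y hy hfy => by
    by_contra hne
    refine k₁ y ⟨hy, fun h => ?_⟩ (hfy.symm ▸ hs.1)
    obtain ⟨z, hz, hzy⟩ := Set.mem_iUnion₂.1 h
    exact hne ⟨z, hz, specializes_iff_mem_closure.2 hzy⟩
  ext r
  constructor
  · rintro ⟨y, ⟨hyZ, hfy, hmax⟩, rfl⟩
    obtain ⟨z, hz, hzy⟩ := hcover y hyZ hfy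
    refine ⟨z, (hM z).1 hz, ?_⟩
    dsimp only
    rw [kz1 z hz y hzy (hfy ▸ hsW z hz) fun y' h1 h2 h3 => ?_]
    obtain ⟨w, ⟨hwZ, hfw⟩, hwy⟩ := exists_specializes_fibre f hZ (kz2 z hz y' h1 (h3 ▸ hfy ▸ hsW z hz))
    have := hmax w hwZ (hfw.trans (h3.trans hfy)) (hwy.trans h2)
    subst this
    exact (h2.antisymm hwy).eq
  · rintro ⟨z, hz, rfl⟩
    replace hz := (hM z).2 hz
    obtain ⟨y₀, hy₀, hfy₀⟩ := kz4 z hz s (hsW z hz)
    obtain ⟨y, ⟨hy, hfy, hymax⟩, -⟩ := exists_maxIn f hy₀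
    rw [hfy₀] at hfy hymax
    have hzy : z ⤳ y := specializes_iff_mem_closure.2 hy
    obtain ⟨w, ⟨hwA, hfw⟩, hwy⟩ := exists_specializes_fibre f ((hclc z).sdiff (hU _)) (kz3 z hz y hzy (hfy ▸ hsW z hz))
    have := hymax w hwA.1 (hfw.trans hfy) hwy
    subst this
    have honly : ∀ z' ∈ M, z' ⤳ w → z' = z := fun z' hz' h => by
      by_contra hne
      exact hwA.2 (Set.mem_iUnion₂.2 ⟨z', Finset.mem_erase.2 ⟨hne, hz'⟩, h.mem_closure⟩)
    have hin : ∀ v ∈ Z, f v = s → v ⤳ w → v = w := fun v hv hfv hvw => by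
      obtain ⟨z', hz', hzv⟩ := hcover v hv hfv
      obtain rfl := honly z' hz' (hzv.trans hvw)
      exact hymax v hzv.mem_closure hfv hvw
    obtain ⟨v, ⟨hvZ, hfv⟩, hvw⟩ := exists_specializes_fibre f hZ (kz2 z hz w hzy (hfy ▸ hsW z hz))
    have := hin v hvZ (hfv.trans hfy) hvw
    subst this
    refine ⟨v, ⟨hvZ, hfy, hin⟩, ?_⟩
    dsimp only
    rw [kz1 z hz v hzy (hfy ▸ hsW z hz) fun y' h1 h2 h3 => hymax y' h1.mem_closure (h3.trans hfy) h2]

end Groth.Agent.CharCycDim
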