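import Groth.Agent.CharCycDim.FibreComps
import Groth.Agent.FittX.Sheaf
import Groth.Agent.QCoh.AnnIdeal

/-! constructibility of the locus of fibres with prescribed component dimensions -/

set_option autoImplicit false
set_option linter.style.haveILetI false
set_option linter.unusedSectionVars false

universe u

open AlgebraicGeometry CategoryTheory CategoryTheory.Limits Topology

namespace Groth.Agent.CharCycDim

variable {X S : Scheme.{u}}

/-- component dimensions of a locally closed subset of a scheme of finite type over a point -/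
theorem componentDims_eq {T : Scheme.{u}} (q : X ⟶ T) [LocallyOfFiniteType q] [Subsingleton T] {A : Set X}
    (hA : IsLocallyClosed A) :
    (fun C : Set ↥A => topologicalKrullDim ↥C) '' irreducibleComponents ↥A =
      (fun w => ((FibDim.rd q w : ℕ∞) : WithBot ℕ∞)) '' {w | w ∈ A ∧ ∀ v, v ∈ A → v ⤳ w → v = w} := by
  haveI := quasiSober_of_isLocallyClosed hA
  have hdim : ∀ C ∈ irreducibleComponents ↥A, ∀ g, IsGenericPoint g C →
      topologicalKrullDim ↥C = ((FibDim.rd q g.1 : ℕ∞) : WithBot ℕ∞) := fun C hC g hg => by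
    have hlc : IsLocallyClosed (Subtype.val '' C : Set X) :=
      (isClosed_of_mem_irreducibleComponents _ hC).isLocallyClosed.image IsInducing.subtypeVal
        (by rw [Subtype.range_coe]; exact hA)
    rw [FibDim.topologicalKrullDim_range_closed, dim_eq_iSup q hlc]
    refine le_antisymm (iSup_le fun z => ?_) (le_iSup_of_le ⟨g.1, g, hg.mem, rfl⟩ le_rfl)
    obtain ⟨w, hw, hwz⟩ := z.2
    exact WithBot.coe_le_coe.2 (Nat.cast_le.2
      (rd_le_of_specializes' q (hwz ▸ (hg.specializes hw).map continuous_subtype_val)))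
  have hgen : ∀ C ∈ irreducibleComponents ↥A, ∀ g, IsGenericPoint g C → ∀ v, v ∈ A → v ⤳ g.1 → v = g.1 :=
    fun C hC g hg v hv hvg => by
      have h' : (⟨v, hv⟩ : ↥A) ⤳ g := IsInducing.subtypeVal.specializes_iff.1 hvg
      have hle : C ⊆ closure {(⟨v, hv⟩ : ↥A)} := by
        rw [← hg.def]
        exact closure_minimal (Set.singleton_subset_iff.2 (specializes_iff_mem_closure.1 h')) isClosed_closure
      have hvC : (⟨v, hv⟩ : ↥A) ∈ C := hC.2 isIrreducible_singleton.closure hle (subset_closure rfl)
      exact congrArg Subtype.val ((hg.specializes hvC).antisymm h').eq.symm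
  ext r
  constructor
  · rintro ⟨C, hC, rfl⟩
    have hg := hC.1.isGenericPoint_genericPoint (isClosed_of_mem_irreducibleComponents _ hC)
    exact ⟨_, ⟨(hC.1.genericPoint).2, hgen C hC _ hg⟩, (hdim C hC _ hg).symm⟩
  · rintro ⟨w, ⟨hw, hmax⟩, rfl⟩
    have hC := irreducibleComponent_mem_irreducibleComponents (⟨w, hw⟩ : ↥A)
    have hg := hC.1.isGenericPoint_genericPoint (isClosed_of_mem_irreducibleComponents _ hC)
    refine ⟨_, hC, ?_⟩
    have := hmax _ (hC.1.genericPoint).2 ((hg.specializes mem_irreducibleComponent).map continuous_subtype_val)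
    dsimp only
    rw [hdim _ hC _ hg, this]

theorem componentDims_homeomorph {α β : Type u} [TopologicalSpace α] [TopologicalSpace β] (e : α ≃ₜ β) :
    (fun C : Set α => topologicalKrullDim ↥C) '' irreducibleComponents α =
      (fun C : Set β => topologicalKrullDim ↥C) '' irreducibleComponents β := by
  have key : ∀ {α β : Type u} [TopologicalSpace α] [TopologicalSpace β] (e : α ≃ₜ β),
      (fun C : Set α => topologicalKrullDim ↥C) '' irreducibleComponents α ⊆
        (fun C : Set β => topologicalKrullDim ↥C) '' irreducibleComponents β := fun {α β} _ _ e => by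
    rintro _ ⟨C, hC, rfl⟩
    refine ⟨e.symm ⁻¹' C, preimage_mem_irreducibleComponents hC e.symm.isOpenEmbedding
      (by rw [e.symm.surjective.range_eq, Set.inter_univ]; exact hC.1.nonempty), ?_⟩
    exact (e.symm.sets (t := C) (s := e.symm ⁻¹' C) rfl).isHomeomorph.topologicalKrullDim_eq
  exact (key e).antisymm (key e.symm)

/-- component dimensions of a fibre of a fibrewise locally closed set -/
theorem componentDims_fibre (f : X ⟶ S) [LocallyOfFiniteType f] {Z : Set X} (s : S)
    (hZs : IsLocallyClosed (Subtype.val ⁻¹' Z : Set ↥(f ⁻¹' {s}))) :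
    (fun T : Set ↥(Z ∩ f ⁻¹' {s}) => topologicalKrullDim ↥T) '' irreducibleComponents ↥(Z ∩ f ⁻¹' {s}) =
      fibDims f Z s := by
  have hA : IsLocallyClosed (f.fiberι s ⁻¹' Z) := by
    have h := hZs.preimage (f.fiberHomeo s).continuous
    exact h
  refine Eq.trans ?_ (fibDims_eq f Z s).symm
  refine Eq.trans ?_ (componentDims_eq (f.fiberToSpecResidueField s) (A := f.fiberι s ⁻¹' Z) hA)
  refine componentDims_homeomorph (((f.fiberι s).isEmbedding.homeomorphImage _).trans (Homeomorph.setCongr ?_)).symm
  rw [Set.image_preimage_eq_inter_range, Scheme.Hom.range_fiberι]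

/-- the locus of fibres with prescribed component dimensions is locally constructible -/
theorem isLocallyConstructible_fibDims (f : X ⟶ S) [LocallyOfFinitePresentation f] [QuasiCompact f] [QuasiSeparated f]
    {Z : Set X} (hZ : IsLocallyConstructible Z) (Φ : Set (WithBot ℕ∞)) :
    IsLocallyConstructible {s : S | fibDims f Z s = Φ} := by
  have h : {s : S | fibDims f Z s = Φ} = dimsLocus Φ f Z Z := by
    ext s
    show fibDims f Z s = Φ ↔ _ ∧ _
    rw [← fibDims_eq]
    exact ⟨fun h => ⟨inferInstance, h⟩, fun h => h.2⟩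
  rw [h]
  refine ConsPropLib.isLocallyConstructible_setsLocus (stable_dims Φ) ?_ f hZ hZ
  intro X S f _ _ _ _ Z Z' hZ _
  obtain ⟨W, hW, hηW, hk⟩ := exists_nhd_fibDims f hZ
  have he : ∀ s, s ∈ dimsLocus Φ f Z Z' ↔ fibDims f Z s = Φ := fun s => by
    show _ ∧ _ ↔ _
    rw [← fibDims_eq]
    exact ⟨fun h => h.2, fun h => ⟨inferInstance, h⟩⟩
  by_cases hΦ : fibDims f Z (genericPoint S) = Φ
  · exact Or.inl ⟨_, mem_interior.2 ⟨W, fun s hs => (he s).2 ((hk s hs).trans hΦ), hW, hηW⟩⟩
  · exact Or.inr ⟨_, mem_interior.2 ⟨W, fun s hs h => hΦ ((hk s hs).symm.trans ((he s).1 h)), hW, hηW⟩⟩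

/-- the support of a finitely presented module is locally constructible -/
theorem isLocallyConstructible_support {F : X.Modules} (hq : Coh.IsQCoh F) (hF : CohB1.IsFP F) :
    IsLocallyConstructible (CohB1.support F) := by
  have hft := QCoh.isFT_of_isFP hF
  rw [← FittX.support_sheafIdeal_zero hq hft]
  refine ConsPropLib.lc_of_affine fun V hV => ?_
  obtain ⟨t, ht⟩ := FittX.isFiniteTypeIdeal hF 0 ⟨V, hV⟩
  haveI : IsAffine (V : Scheme.{u}) := hV
  rw [← isConstructible_compl]
  have hset : (V.ι ⁻¹' ((Fitt.sheafIdeal F 0).support : Set X))ᶜ =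
      ⋃ r ∈ t, V.ι ⁻¹' (X.basicOpen r : Set X) := by
    ext x
    have h := Set.ext_iff.1 ((Fitt.sheafIdeal F 0).coe_support_inter ⟨V, hV⟩) (V.ι x)
    have hx : V.ι x ∈ (V : Set X) := (Scheme.Opens.range_ι V).le ⟨x, rfl⟩
    rw [Set.mem_inter_iff, Set.mem_inter_iff, and_iff_left hx, and_iff_left hx] at h
    simp only [Set.mem_compl_iff, Set.mem_preimage, h, ← ht, Scheme.zeroLocus_span,
      Scheme.mem_zeroLocus_iff, SetLike.mem_coe, Set.mem_iUnion, exists_prop, not_forall, not_not]
  rw [hset]
  refine IsConstructible.biUnion t.finite_toSet fun r _ => ?_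
  have hc : IsCompact (V.ι ⁻¹' (X.basicOpen r : Set X)) :=
    V.ι.isOpenEmbedding.isInducing.isCompact_preimage' (hV.basicOpen r).isCompact
      (by rw [Scheme.Opens.range_ι]; exact X.basicOpen_le r)
  exact hc.isConstructible ((X.basicOpen r).2.preimage V.ι.continuous)

end Groth.Agent.CharCycDim
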