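import Groth.Agent.CharCycDim.Cut
import Groth.Prelude.Def_RegImm

/-! dimension of a scheme over another through the dimensions of the fibres -/

set_option autoImplicit false
set_option linter.style.haveILetI false
set_option linter.unusedSectionVars false

universe u

open AlgebraicGeometry CategoryTheory CategoryTheory.Limits Topology Groth.Agent.FibDim

namespace Groth.Agent.CharCycDim

variable {k : Type u} [Field k] {C X W : Scheme.{u}} (q : X ⟶ Spec (CommRingCat.of k)) (π : C ⟶ X)
  [LocallyOfFiniteType q] [LocallyOfFiniteType π]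

include q in
theorem dim_le_iff_closure_strata [CompactSpace C] (n : ℕ) :
    topologicalKrullDim C ≤ n ↔ ∀ j : ℕ, topologicalKrullDim
      (closure {x : X | (j : WithBot ℕ∞) ≤ topologicalKrullDim (π.fiber x)}) + (j : WithBot ℕ∞) ≤ n := by
  haveI : IsLocallyNoetherian X := LocallyOfFiniteType.isLocallyNoetherian q
  rw [dim_le_iff' (π ≫ q) n]
  simp only [dim_add_le_iff q isClosed_closure.isLocallyClosed]
  constructor
  · intro h j x hx
    obtain ⟨y, hyx, hj⟩ := exists_rd_of_mem_closure π j hx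
    have h1 := rd_le_of_specializes' q hyx
    have h2 := h y
    rw [rd_comp] at h2
    omega
  · intro h y
    rw [rd_comp]
    exact h (rd π y) (π y) (subset_closure ((le_topologicalKrullDim_fiber_iff π (π y) (rd π y)).2 ⟨y, rfl, le_rfl⟩))

include q in
theorem dim_le_of_components {n : ℕ} (hC : ∀ P ∈ irreducibleComponents (C : Type u), topologicalKrullDim P = n)
    (c : C) : rd (π ≫ q) c ≤ n := by
  have hP := irreducibleComponent_mem_irreducibleComponents c
  exact (dim_le_iff (π ≫ q) (isClosed_of_mem_irreducibleComponents _ hP).isLocallyClosed n).1 (hC _ hP).le c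
    mem_irreducibleComponent

theorem quasiSober_of_isLocallyClosed {α : Type*} [TopologicalSpace α] [QuasiSober α] {S : Set α}
    (hS : IsLocallyClosed S) : QuasiSober ↥S := by
  obtain ⟨U, Z, hU, hZ, rfl⟩ := hS
  haveI : QuasiSober ↥U := hU.isOpenEmbedding_subtypeVal.quasiSober
  have he : IsClosedEmbedding (Set.inclusion (Set.inter_subset_left : U ∩ Z ⊆ U)) := by
    refine ⟨IsEmbedding.inclusion _, ?_⟩
    rw [Set.range_inclusion]
    convert hZ.preimage continuous_subtype_val using 1
    ext x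
    exact ⟨fun h => h.2, fun h => ⟨x.2, h⟩⟩
  exact he.quasiSober

theorem isLocallyClosed_preimage (ι : W ⟶ X) [IsImmersion ι] : IsLocallyClosed (π ⁻¹' Set.range ι : Set C) :=
  ι.isLocallyClosed_range.preimage π.continuous

include q in
theorem dim_preimage_le_iff [CompactSpace C] (ι : W ⟶ X) [IsImmersion ι] {n c : ℕ}
    (hC : ∀ P ∈ irreducibleComponents (C : Type u), topologicalKrullDim P = n)
    (hB : ∀ j : ℕ, IsClosed {x : X | (j : WithBot ℕ∞) ≤ topologicalKrullDim (π.fiber x)}) :
    (∀ j : ℕ, topologicalKrullDim {x : X | (j : WithBot ℕ∞) ≤ topologicalKrullDim (π.fiber x)} + (j : WithBot ℕ∞) ≤ n) ∧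
      (topologicalKrullDim (π ⁻¹' Set.range ι : Set C) + (c : WithBot ℕ∞) ≤ n ↔
        ∀ j : ℕ, topologicalKrullDim (ι ⁻¹' {x : X | (j : WithBot ℕ∞) ≤ topologicalKrullDim (π.fiber x)} : Set W) +
          (c : WithBot ℕ∞) + (j : WithBot ℕ∞) ≤ n) := by
  refine ⟨fun j => ?_, ?_⟩
  · have h := (dim_le_iff_closure_strata q π n).1 ((dim_le_iff' (π ≫ q) n).2 (dim_le_of_components q π hC)) j
    rwa [(hB j).closure_eq] at h
  simp only [add_assoc, ← Nat.cast_add,
    dim_add_le_iff (ι ≫ q) ((hB _).preimage ι.continuous).isLocallyClosed,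
    dim_add_le_iff (π ≫ q) (isLocallyClosed_preimage π ι)]
  constructor
  · intro h j w hw
    obtain ⟨z, hz, hj⟩ := (le_topologicalKrullDim_fiber_iff π (ι w) j).1 hw
    have h1 := h z ⟨w, hz.symm⟩
    rw [rd_comp, hz] at h1
    rw [rd_immersion]
    omega
  · rintro h z ⟨w, hw⟩
    have h1 := h (rd π z) w ((le_topologicalKrullDim_fiber_iff π (ι w) (rd π z)).2 ⟨z, hw.symm, le_rfl⟩)
    rw [rd_immersion, hw] at h1
    rw [rd_comp]
    omega

/-- irreducible components of the cut have dimension at least `n - c` -/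
theorem le_rd_add_of_component (ι : W ⟶ X) {κ : RegImm.Kind} {c : ℕ} (hι : RegImm.IsRegularImmersionOfCodim κ c ι)
    {ξ η : C} (hξη : ξ ⤳ η) (hη : π η ∈ Set.range ι)
    (hmin : ∀ z, ξ ⤳ z → π z ∈ Set.range ι → z ⤳ η → z = η) : rd (π ≫ q) ξ ≤ rd (π ≫ q) η + c := by
  obtain ⟨w, hw⟩ := hη
  obtain ⟨U, hwU, hcl, rs, hlen, -, hker⟩ := hι.2 w
  haveI := hcl
  obtain ⟨V, hV, hηV, hVU⟩ := exists_isAffineOpen_mem_and_subset (U := π ⁻¹ᵁ U.1) (x := η) (show π η ∈ U.1 from hw ▸ hwU)
  let φ : Γ(X, U.1) ⟶ Γ(C, V) := π.appLE U.1 V hVU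
  have hzl : ∀ z ∈ V, π z ∈ Set.range ι ↔ z ∈ C.zeroLocus (U := V) (Ideal.ofList (rs.map φ)) := by
    intro z hz
    rw [range_inter_eq_zeroLocus ι U.2 (hVU hz), hker]
    simp only [Ideal.ofList, Scheme.zeroLocus_span, Scheme.mem_zeroLocus_iff, Set.mem_ofPred_eq, List.mem_map,
      forall_exists_index, and_imp, forall_apply_eq_imp_iff₂]
    refine forall₂_congr fun r _ => not_congr ?_
    have : z ∈ C.basicOpen (φ r) ↔ z ∈ V ∧ z ∈ π ⁻¹ᵁ X.basicOpen r := by
      simp only [φ, Scheme.Hom.appLE, CommRingCat.comp_apply, Scheme.basicOpen_res, Scheme.preimage_basicOpen]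
      exact Iff.rfl
    rw [this]
    exact ⟨fun h => ⟨hz, h⟩, fun h => h.2⟩
  refine (rd_le_add_of_minimal (π ≫ q) hV (rs.map φ) hηV hξη ((hzl η hηV).1 ⟨w, hw⟩)
    fun z hz hξz hzl' hzη => hmin z hξz ((hzl z hz).2 hzl') hzη).trans ?_
  rw [List.length_map, hlen]

include q in
theorem component_dim_iff (ι : W ⟶ X) {κ : RegImm.Kind} {n c : ℕ} (hι : RegImm.IsRegularImmersionOfCodim κ c ι)
    (hC : ∀ P ∈ irreducibleComponents (C : Type u), topologicalKrullDim P = n) :
    (∀ P ∈ irreducibleComponents (C : Type u), ∀ Q ∈ irreducibleComponents (P ∩ π ⁻¹' Set.range ι : Set C),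
        topologicalKrullDim Q + (c : WithBot ℕ∞) = n) ↔
      topologicalKrullDim (π ⁻¹' Set.range ι : Set C) + (c : WithBot ℕ∞) ≤ n := by
  haveI := hι.1
  rw [dim_add_le_iff (π ≫ q) (isLocallyClosed_preimage π ι)]
  have hlcP : ∀ P ∈ irreducibleComponents (C : Type u), IsLocallyClosed (P ∩ π ⁻¹' Set.range ι) := fun P hP =>
    (isClosed_of_mem_irreducibleComponents _ hP).isLocallyClosed.inter (isLocallyClosed_preimage π ι)
  have hlcQ : ∀ P ∈ irreducibleComponents (C : Type u), ∀ Q ∈ irreducibleComponents (P ∩ π ⁻¹' Set.range ι : Set C),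
      IsLocallyClosed (Subtype.val '' Q : Set C) := fun P hP Q hQ =>
    (isClosed_of_mem_irreducibleComponents _ hQ).isLocallyClosed.image IsInducing.subtypeVal
      (by rw [Subtype.range_coe]; exact hlcP P hP)
  constructor
  · intro h z hz
    have hP := irreducibleComponent_mem_irreducibleComponents z
    let z' : (irreducibleComponent z ∩ π ⁻¹' Set.range ι : Set C) := ⟨z, mem_irreducibleComponent, hz⟩
    have hQ := irreducibleComponent_mem_irreducibleComponents z'
    have h1 := (h _ hP _ hQ).le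
    rw [topologicalKrullDim_range_closed, dim_add_le_iff (π ≫ q) (hlcQ _ hP _ hQ)] at h1
    exact h1 z ⟨z', mem_irreducibleComponent, rfl⟩
  · intro h P hP Q hQ
    refine le_antisymm ?_ ?_
    · rw [topologicalKrullDim_range_closed, dim_add_le_iff (π ≫ q) (hlcQ P hP Q hQ)]
      rintro _ ⟨z, -, rfl⟩
      exact h z z.2.2
    have hPc := isClosed_of_mem_irreducibleComponents _ hP
    have hPg := hP.1.isGenericPoint_genericPoint_closure
    rw [hPc.closure_eq] at hPg
    haveI : QuasiSober ↥(P ∩ π ⁻¹' Set.range ι : Set C) := quasiSober_of_isLocallyClosed (hlcP P hP)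
    have hQg := hQ.1.isGenericPoint_genericPoint_closure
    rw [(isClosed_of_mem_irreducibleComponents _ hQ).closure_eq] at hQg
    set η := hQ.1.genericPoint with hη
    have hξη : hP.1.genericPoint ⤳ η.1 := hPg.specializes η.2.1
    have h1 := le_rd_add_of_component q π ι hι hξη η.2.2 fun z hξz hzι hzη => by
      have hzP : z ∈ P := hξz.mem_closed hPc hPg.mem
      let z' : (P ∩ π ⁻¹' Set.range ι : Set C) := ⟨z, hzP, hzι⟩
      have hz' : z' ⤳ η := IsInducing.subtypeVal.specializes_iff.1 hzη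
      have hQle : Q ⊆ closure {z'} := by
        rw [← hQg.def]
        exact closure_minimal (Set.singleton_subset_iff.2 (specializes_iff_mem_closure.1 hz')) isClosed_closure
      have hzQ : z' ∈ Q := hQ.2 isIrreducible_singleton.closure hQle (subset_closure rfl)
      exact congrArg Subtype.val ((hQg.specializes hzQ).antisymm hz').eq.symm
    have h2 : (n : WithBot ℕ∞) = ((rd (π ≫ q) hP.1.genericPoint : ℕ∞) : WithBot ℕ∞) := by
      rw [← hC P hP, ← dim_range_closure_singleton (π ≫ q), hPg.def]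
    rw [topologicalKrullDim_range_closed, h2]
    refine le_trans ?_ (add_le_add_left (le_dim (π ≫ q) (hlcQ P hP Q hQ) ⟨η, hQg.mem, rfl⟩) _)
    exact_mod_cast h1

end Groth.Agent.CharCycDim
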