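import Groth.Agent.CharCycDim.Basic
import Mathlib.AlgebraicGeometry.Morphisms.UniversallyInjective
import Mathlib.AlgebraicGeometry.Noetherian
import Groth.Agent.EtFound.Strata

/-! well intersecting closed subsets -/

set_option autoImplicit false
set_option linter.style.haveILetI false
set_option linter.unusedSectionVars false

universe u

open AlgebraicGeometry CategoryTheory CategoryTheory.Limits Topology Groth.Agent.FibDim

namespace Groth.Agent.CharCycDim

variable {k : Type u} [Field k] {X S : Scheme.{u}} (q : S ⟶ Spec (CommRingCat.of k)) (f : X ⟶ S)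
  [LocallyOfFiniteType q] [LocallyOfFiniteType f]

/-- arithmetic of the intersection bound -/
theorem not_add_le {s : WithBot ℕ∞} {d y z : ℕ} (hd : y ≤ d) (hz : ((z : ℕ∞) : WithBot ℕ∞) < s) :
    ¬ ((d : ℕ∞) : WithBot ℕ∞) + s ≤ ((y : ℕ∞) : WithBot ℕ∞) + ((z : ℕ∞) : WithBot ℕ∞) := by
  rcases s with _ | s
  · exact absurd hz not_lt_bot
  induction s using ENat.recTopCoe with
  | top =>
    intro h
    have h' : ((d : ℕ∞) + ⊤) ≤ ((y : ℕ∞) + (z : ℕ∞)) := WithBot.coe_le_coe.1 h
    rw [add_top, top_le_iff] at h'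
    exact absurd h' (by simp)
  | coe m =>
    intro h
    have h' : ((d : ℕ∞) + m) ≤ ((y : ℕ∞) + (z : ℕ∞)) := WithBot.coe_le_coe.1 h
    have hm : (z : ℕ∞) < m := WithBot.coe_lt_coe.1 hz
    norm_cast at h' hm
    omega

/-- pairs off the diagonal -/
abbrev offDiag (Y Z : Set X) : Set ↥(pullback f f) :=
  {p | pullback.fst f f p ∈ Y ∧ pullback.snd f f p ∈ Z ∧ p ∉ Set.range (pullback.diagonal f)}

theorem isLocallyClosed_offDiag [IsSeparated f] {Y Z : Set X} (hY : IsClosed Y) (hZ : IsClosed Z) :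
    IsLocallyClosed (offDiag f Y Z) := by
  have h : offDiag f Y Z = (Set.range (pullback.diagonal f))ᶜ ∩
      ((pullback.fst f f) ⁻¹' Y ∩ (pullback.snd f f) ⁻¹' Z) := by
    ext p
    exact ⟨fun h => ⟨h.2.2, h.1, h.2.1⟩, fun h => ⟨h.2.1, h.2.2, h.1⟩⟩
  rw [h]
  exact ⟨_, _, (pullback.diagonal f).isClosedEmbedding.isClosed_range.isOpen_compl,
    (hY.preimage (pullback.fst f f).continuous).inter (hZ.preimage (pullback.snd f f).continuous), rfl⟩

include q in
theorem dim_irreducible {Y : Set X} (hYc : IsClosed Y) (hYi : IsIrreducible Y) :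
    ∃ η ∈ Y, IsGenericPoint η Y ∧ topologicalKrullDim ↥Y = ((rd (f ≫ q) η : ℕ∞) : WithBot ℕ∞) := by
  have hg := hYi.isGenericPoint_genericPoint_closure
  rw [hYc.closure_eq] at hg
  exact ⟨_, hg.mem, hg, by rw [← dim_range_closure_singleton (f ≫ q), hg.def]⟩

include q in
theorem notMem_of_offDiag [IsSeparated f] {Y Z : Set X} (hYc : IsClosed Y) (hZc : IsClosed Z) {η ζ : X}
    (hη : topologicalKrullDim ↥Y = ((rd (f ≫ q) η : ℕ∞) : WithBot ℕ∞))
    (hζ : topologicalKrullDim ↥Z = ((rd (f ≫ q) ζ : ℕ∞) : WithBot ℕ∞))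
    (hWI : topologicalKrullDim ↥(offDiag f Y Z) + topologicalKrullDim S ≤
      topologicalKrullDim ↥Y + topologicalKrullDim ↥Z)
    (hZS : topologicalKrullDim ↥Z < topologicalKrullDim S) {p : ↥(pullback f f)} (hp : p ∈ offDiag f Y Z) :
    pullback.fst f f p ≠ η := fun h => by
  rw [hη, hζ] at hWI
  rw [hζ] at hZS
  have h1 : rd (pullback.fst f f ≫ f ≫ q) p = rd (f ≫ q) η + rd (pullback.fst f f) p := by rw [rd_comp, h]
  refine not_add_le (d := rd (pullback.fst f f ≫ f ≫ q) p) (y := rd (f ≫ q) η) (by omega) hZS ?_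
  exact (add_le_add_left (le_dim _ (isLocallyClosed_offDiag f hYc hZc) hp) _).trans hWI

include q in
theorem not_subset_closure [CompactSpace X] [IsSeparated f] [IsSeparated q] {Y Z : Set X} (hYc : IsClosed Y)
    (hYi : IsIrreducible Y) (hZc : IsClosed Z) (hZi : IsIrreducible Z)
    (hWI : topologicalKrullDim ↥(offDiag f Y Z) + topologicalKrullDim S ≤
      topologicalKrullDim ↥Y + topologicalKrullDim ↥Z)
    (hZS : topologicalKrullDim ↥Z < topologicalKrullDim S) (hYZ : ¬ Y ⊆ Z) :
    ¬ (f '' Y ⊆ closure (f '' Y ∩ f '' Z)) ∧ ¬ (f '' Y ⊆ f '' Z) := by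
  obtain ⟨η, hηY, hηg, hη⟩ := dim_irreducible q f hYc hYi
  obtain ⟨ζ, -, -, hζ⟩ := dim_irreducible q f hZc hZi
  haveI : IsLocallyNoetherian S := LocallyOfFiniteType.isLocallyNoetherian q
  haveI : IsLocallyNoetherian X := LocallyOfFiniteType.isLocallyNoetherian f
  haveI : CompactSpace ↥(pullback f f) := QuasiCompact.compactSpace_of_compactSpace (pullback.fst f f)
  have key : ¬ f '' Y ⊆ closure (f '' Y ∩ f '' Z) := fun hsub => by
    let E : Set ↥(pullback f f) := (pullback.fst f f) ⁻¹' Y ∩ (pullback.snd f f) ⁻¹' Z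
    have hE : IsClosed E :=
      (hYc.preimage (pullback.fst f f).continuous).inter (hZc.preimage (pullback.snd f f).continuous)
    have hpc : ProCons.IsProConstructible E :=
      ProConsLib.isProConstructible_of_isLocallyClosed hE.isLocallyClosed fun V hV => hV.isCompact.inter_left hE
    have hle : f '' Y ∩ f '' Z ⊆ (pullback.fst f f ≫ f) '' E := by
      rintro _ ⟨⟨y, hy, rfl⟩, z, hz, hzy⟩
      obtain ⟨p, hp1, hp2⟩ := Scheme.Pullback.exists_preimage_pullback (f := f) (g := f) y z hzy.symm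
      exact ⟨p, ⟨show pullback.fst f f p ∈ Y from hp1.symm ▸ hy, show pullback.snd f f p ∈ Z from hp2.symm ▸ hz⟩, (Scheme.Hom.comp_apply _ _ _).trans (congrArg f hp1)⟩
    obtain ⟨p, ⟨hpY, hpZ⟩, hp⟩ := ProConsLib.exists_specializes_of_mem_closure_image_scheme hpc
      (pullback.fst f f ≫ f) (closure_mono hle (hsub ⟨η, hηY, rfl⟩))
    have heq : f (pullback.snd f f p) = f η := by
      have h1 : f (pullback.fst f f p) ⤳ f η := by simpa using hp
      have h2 : f η ⤳ f (pullback.fst f f p) := (hηg.specializes hpY).map f.continuous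
      rw [← Scheme.Hom.comp_apply, ← pullback.condition, Scheme.Hom.comp_apply]
      exact (h1.antisymm h2).eq
    obtain ⟨p', hp1, hp2⟩ := Scheme.Pullback.exists_preimage_pullback (f := f) (g := f) η (pullback.snd f f p) heq.symm
    refine notMem_of_offDiag q f hYc hZc hη hζ hWI hZS (p := p') ⟨hp1.symm ▸ hηY, hp2.symm ▸ hpZ, ?_⟩ hp1
    rintro ⟨x, rfl⟩
    rw [← Scheme.Hom.comp_apply, pullback.diagonal_fst] at hp1
    rw [← Scheme.Hom.comp_apply, pullback.diagonal_snd] at hp2
    refine hYZ fun y hy => (hηg.specializes hy).mem_closed hZc ?_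
    rw [← show (𝟙 X : X ⟶ X) x = η from hp1]
    exact hp2 ▸ hpZ
  exact ⟨key, fun h => key fun _ hy => subset_closure ⟨hy, h hy⟩⟩

include q in
theorem generically_radicial [CompactSpace X] [IsSeparated f] [IsSeparated q] {Y : Set X} (hYc : IsClosed Y)
    (hYi : IsIrreducible Y)
    (hWI : topologicalKrullDim ↥(offDiag f Y Y) + topologicalKrullDim S ≤
      topologicalKrullDim ↥Y + topologicalKrullDim ↥Y)
    (hYS : topologicalKrullDim ↥Y < topologicalKrullDim S) :
    ∃ V : Set X, IsOpen V ∧ (V ∩ Y).Nonempty ∧ Set.InjOn f.base (V ∩ Y) ∧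
      ∀ x ∈ V ∩ Y, (f.residueFieldMap x).hom.IsPurelyInseparable := by
  obtain ⟨η, hηY, hηg, hη⟩ := dim_irreducible q f hYc hYi
  haveI : IsLocallyNoetherian S := LocallyOfFiniteType.isLocallyNoetherian q
  haveI : IsLocallyNoetherian X := LocallyOfFiniteType.isLocallyNoetherian f
  haveI : IsLocallyNoetherian (pullback f f) := LocallyOfFiniteType.isLocallyNoetherian (pullback.fst f f)
  haveI : CompactSpace ↥(pullback f f) := QuasiCompact.compactSpace_of_compactSpace (pullback.fst f f)
  haveI : IsNoetherian (pullback f f) := ⟨⟩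
  have hlc := isLocallyClosed_offDiag f hYc hYc
  have hpc : ProCons.IsProConstructible (offDiag f Y Y) :=
    ProConsLib.isProConstructible_of_isLocallyClosed hlc fun V _ => TopologicalSpace.NoetherianSpace.isCompact _
  let B : Set X := (pullback.fst f f) '' offDiag f Y Y
  have hηB : η ∈ (closure B)ᶜ := fun h => by
    obtain ⟨p, hp, hps⟩ := ProConsLib.exists_specializes_of_mem_closure_image_scheme hpc (pullback.fst f f) h
    exact notMem_of_offDiag q f hYc hYc hη hη hWI hYS hp ((hps.antisymm (hηg.specializes hp.1)).eq)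
  obtain ⟨T, i, hi, hr⟩ := EtFound.exists_immersion_range
    (isClosed_closure.isOpen_compl.isLocallyClosed.inter hYc.isLocallyClosed : IsLocallyClosed ((closure B)ᶜ ∩ Y))
  have hdiag : Surjective (pullback.diagonal (i ≫ f)) := ⟨fun p => by
    let e := pullback.map (i ≫ f) (i ≫ f) f f i i (𝟙 S) (Category.comp_id _) (Category.comp_id _)
    have he1 : pullback.fst f f (e p) = i (pullback.fst (i ≫ f) (i ≫ f) p) := by
      rw [← Scheme.Hom.comp_apply, pullback.lift_fst, Scheme.Hom.comp_apply]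
    have he2 : pullback.snd f f (e p) = i (pullback.snd (i ≫ f) (i ≫ f) p) := by
      rw [← Scheme.Hom.comp_apply, pullback.lift_snd, Scheme.Hom.comp_apply]
    have hd : e p ∈ Set.range (pullback.diagonal f) := by
      by_contra hnd
      exact (hr.le ⟨_, rfl⟩).1 (subset_closure ⟨e p, ⟨he1.symm ▸ (hr.le ⟨_, rfl⟩).2, he2.symm ▸ (hr.le ⟨_, rfl⟩).2, hnd⟩, he1⟩)
    obtain ⟨x, hx⟩ := hd
    let t := pullback.fst (i ≫ f) (i ≫ f) p
    have hnat : pullback.diagonal (i ≫ f) ≫ e = i ≫ pullback.diagonal f := by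
      apply pullback.hom_ext <;>
        simp only [e, Category.assoc, pullback.lift_fst, pullback.lift_snd,
          pullback.diagonal_fst, pullback.diagonal_snd, pullback.diagonal_fst_assoc, pullback.diagonal_snd_assoc,
          Category.comp_id]
    haveI : Mono e := ⟨fun a b hab => by
      have h1 := hab =≫ pullback.fst f f
      have h2 := hab =≫ pullback.snd f f
      simp only [e, Category.assoc, pullback.lift_fst, pullback.lift_snd] at h1 h2
      rw [← Category.assoc, ← Category.assoc] at h1 h2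
      exact pullback.hom_ext ((cancel_mono i).1 h1) ((cancel_mono i).1 h2)⟩
    refine ⟨t, e.injective ?_⟩
    have hxt : x = i t := by
      have h1 := congrArg (pullback.fst f f) hx
      rw [← Scheme.Hom.comp_apply, pullback.diagonal_fst, he1] at h1
      exact h1
    rw [← hx, hxt, ← Scheme.Hom.comp_apply, hnat, Scheme.Hom.comp_apply]⟩
  haveI : UniversallyInjective (i ≫ f) := (UniversallyInjective.iff_diagonal _).2 hdiag
  obtain ⟨hinj, hres⟩ := ((tfae_universallyInjective (i ≫ f)).out 0 2).1 ‹_›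
  refine ⟨(closure B)ᶜ, isClosed_closure.isOpen_compl, ⟨η, hηB, hηY⟩, fun a ha b hb hab => ?_, fun x hx => ?_⟩
  · obtain ⟨s, rfl⟩ := hr.ge ha
    obtain ⟨t, rfl⟩ := hr.ge hb
    exact congrArg i (hinj ((Scheme.Hom.comp_apply _ _ _).trans (hab.trans (Scheme.Hom.comp_apply _ _ _).symm)))
  · obtain ⟨t, rfl⟩ := hr.ge hx
    have h := hres t
    rw [Scheme.residueFieldMap_comp] at h
    replace h : ((i.residueFieldMap t).hom.comp (f.residueFieldMap (i t)).hom).IsPurelyInseparable := h
    algebraize [(f.residueFieldMap (i t)).hom, (i.residueFieldMap t).hom,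
      (i.residueFieldMap t).hom.comp (f.residueFieldMap (i t)).hom]
    haveI : IsPurelyInseparable (S.residueField (f (i t))) (T.residueField t) := h
    exact IsPurelyInseparable.tower_bot (S.residueField (f (i t))) (X.residueField (i t)) (T.residueField t)

end Groth.Agent.CharCycDim
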