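import Groth.Agent.CharCycDim.Well
import Groth.Agent.FibDim.BaseChange

/-! well intersection is insensitive to flat base change of constant relative dimension -/

set_option autoImplicit false
set_option linter.style.haveILetI false
set_option linter.unusedSectionVars false

universe u

open AlgebraicGeometry CategoryTheory CategoryTheory.Limits Topology Groth.Agent.FibDim

namespace Groth.Agent.CharCycDim

variable {k : Type u} [Field k]

theorem dim_preimage_of_isPullback {A A' S S' : Scheme.{u}} (qA : A ⟶ Spec (CommRingCat.of k)) [LocallyOfFiniteType qA]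
    {h : A' ⟶ A} {j : A' ⟶ S'} {b : A ⟶ S} {g : S' ⟶ S} [LocallyOfFiniteType g] (hp : IsPullback h j b g)
    (d : ℕ) (hd : ∀ s : S, topologicalKrullDim (g.fiber s) = d) {L : Set A} (hL : IsLocallyClosed L) :
    topologicalKrullDim ↥(h ⁻¹' L) = topologicalKrullDim ↥L + (d : WithBot ℕ∞) := by
  haveI : LocallyOfFiniteType h := MorphismProperty.of_isPullback hp.flip inferInstance
  rw [dim_eq_iSup qA hL, dim_eq_iSup (h ≫ qA) (hL.preimage h.continuous), ← iSup_nat_add]
  refine le_antisymm (iSup_le fun z => le_iSup_of_le ⟨h z.1, z.2⟩ ?_) (iSup_le fun z => ?_)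
  · have h1 := rd_baseChange_le hp.flip z.1
    have h2 : rd g (j z.1) ≤ d :=
      (topologicalKrullDim_fiber_le_iff g (g (j z.1)) d).1 (hd _).le _ rfl
    show ((rd (h ≫ qA) z.1 : ℕ∞) : WithBot ℕ∞) ≤ ((rd qA (h z.1) + d : ℕ) : WithBot ℕ∞)
    rw [rd_comp]
    exact WithBot.coe_le_coe.2 (Nat.cast_le.2 (show rd qA (h z.1) + rd h z.1 ≤ rd qA (h z.1) + d by omega))
  · obtain ⟨s, hs, hds⟩ := (le_topologicalKrullDim_fiber_iff g (b z.1) d).1 (hd _).ge
    obtain ⟨x, -, hx2, hx3⟩ := exists_rd_baseChange_eq hp.flip s z.1 hs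
    refine le_iSup_of_le ⟨x, show h x ∈ L from hx2.symm ▸ z.2⟩ ?_
    show ((rd qA z.1 + d : ℕ) : WithBot ℕ∞) ≤ ((rd (h ≫ qA) x : ℕ∞) : WithBot ℕ∞)
    rw [rd_comp, hx2]
    exact WithBot.coe_le_coe.2 (Nat.cast_le.2 (show rd qA z.1 + d ≤ rd qA z.1 + rd h x by omega))

theorem add_add_le_iff (a b c e : WithBot ℕ∞) (d : ℕ) :
    (a + (d : WithBot ℕ∞)) + (b + (d : WithBot ℕ∞)) ≤ (c + (d : WithBot ℕ∞)) + (e + (d : WithBot ℕ∞)) ↔
      a + b ≤ c + e := by
  rw [add_add_add_comm, add_add_add_comm c, ← Nat.cast_add]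
  constructor
  · intro h
    have hd : ((d + d : ℕ) : WithBot ℕ∞) = (((d + d : ℕ) : ℕ∞) : WithBot ℕ∞) := rfl
    rw [hd] at h
    generalize a + b = x at h ⊢
    generalize c + e = y at h ⊢
    rcases x with _ | x
    · exact bot_le
    rcases y with _ | y
    · exact absurd h (not_le_of_gt (WithBot.bot_lt_coe _))
    exact WithBot.coe_le_coe.2 ((WithTop.add_le_add_iff_right (WithTop.coe_ne_top)).1 (WithBot.coe_le_coe.1 h))
  · exact fun h => add_le_add_left h _

variable {X S S' : Scheme.{u}} (q : S ⟶ Spec (CommRingCat.of k)) (f : X ⟶ S) (g : S' ⟶ S)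
  [LocallyOfFiniteType q] [LocallyOfFiniteType f] [LocallyOfFiniteType g]

include q in
theorem wellIntersect_iff [IsSeparated f] (d : ℕ) (hd : ∀ s : S, topologicalKrullDim (g.fiber s) = d) {Y Z : Set X}
    (hY : IsClosed Y) (hZ : IsClosed Z) :
    (topologicalKrullDim ↥(offDiag f Y Z) + topologicalKrullDim S ≤ topologicalKrullDim ↥Y + topologicalKrullDim ↥Z) ↔
      (topologicalKrullDim ↥(offDiag (pullback.snd f g) ((pullback.fst f g) ⁻¹' Y) ((pullback.fst f g) ⁻¹' Z)) +
        topologicalKrullDim S' ≤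
          topologicalKrullDim ↥((pullback.fst f g) ⁻¹' Y) + topologicalKrullDim ↥((pullback.fst f g) ⁻¹' Z)) := by
  let f' := pullback.snd f g
  let p := pullback.fst f g
  let e : pullback f' f' ⟶ pullback f f := pullback.map f' f' f f p p g pullback.condition.symm pullback.condition.symm
  have he1 : e ≫ pullback.fst f f = pullback.fst f' f' ≫ p := pullback.lift_fst _ _ _
  have he2 : e ≫ pullback.snd f f = pullback.snd f' f' ≫ p := pullback.lift_snd _ _ _
  have sq : IsPullback p f' f g := IsPullback.of_hasPullback f g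
  have h1 : IsPullback e (pullback.snd f' f') (pullback.snd f f) p := by
    refine IsPullback.of_right ?_ he2 (IsPullback.of_hasPullback f f)
    rw [he1, show p ≫ f = f' ≫ g from pullback.condition]
    exact (IsPullback.of_hasPullback f' f').paste_horiz sq
  have h2 : IsPullback e (pullback.snd f' f' ≫ f') (pullback.snd f f ≫ f) g := h1.paste_vert sq
  have hΔc : p ≫ pullback.diagonal f = pullback.diagonal f' ≫ e := by
    apply pullback.hom_ext
    · rw [Category.assoc, pullback.diagonal_fst, Category.assoc, he1, pullback.diagonal_fst_assoc, Category.comp_id]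
    · rw [Category.assoc, pullback.diagonal_snd, Category.assoc, he2, pullback.diagonal_snd_assoc, Category.comp_id]
  have h3 : IsPullback p (pullback.diagonal f') (pullback.diagonal f) e := by
    refine IsPullback.of_bot ?_ hΔc h2
    rw [pullback.diagonal_snd_assoc, pullback.diagonal_snd_assoc]
    exact sq
  have hset : offDiag f' (p ⁻¹' Y) (p ⁻¹' Z) = e ⁻¹' offDiag f Y Z := by
    ext z
    have a1 : pullback.fst f f (e z) = p (pullback.fst f' f' z) := by
      rw [← Scheme.Hom.comp_apply, he1, Scheme.Hom.comp_apply]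
    have a2 : pullback.snd f f (e z) = p (pullback.snd f' f' z) := by
      rw [← Scheme.Hom.comp_apply, he2, Scheme.Hom.comp_apply]
    have a3 : z ∈ Set.range (pullback.diagonal f') ↔ e z ∈ Set.range (pullback.diagonal f) := by
      refine ⟨fun ⟨w, hw⟩ => ⟨p w, ?_⟩, fun ⟨x, hx⟩ => ?_⟩
      · rw [← Scheme.Hom.comp_apply, hΔc, Scheme.Hom.comp_apply, hw]
      · obtain ⟨o, -, ho⟩ := Scheme.exists_preimage_of_isPullback h3 x z hx
        exact ⟨o, ho⟩
    show _ ∧ _ ∧ _ ↔ pullback.fst f f (e z) ∈ Y ∧ pullback.snd f f (e z) ∈ Z ∧ ¬ _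
    rw [a1, a2, ← a3]
    exact Iff.rfl
  have hS : topologicalKrullDim S' = topologicalKrullDim S + (d : WithBot ℕ∞) := by
    have h := dim_preimage_of_isPullback q (IsPullback.id_horiz (f := g) |>.flip) d hd (L := Set.univ) isClosed_univ.isLocallyClosed
    rwa [Set.preimage_univ, (Homeomorph.Set.univ S').isHomeomorph.topologicalKrullDim_eq,
      (Homeomorph.Set.univ S).isHomeomorph.topologicalKrullDim_eq] at h
  show _ ↔ topologicalKrullDim ↥(offDiag f' (p ⁻¹' Y) (p ⁻¹' Z)) + _ ≤ _
  rw [hset, dim_preimage_of_isPullback (pullback.snd f f ≫ f ≫ q) h2 d hd (isLocallyClosed_offDiag f hY hZ),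
    dim_preimage_of_isPullback (f ≫ q) sq d hd hY.isLocallyClosed,
    dim_preimage_of_isPullback (f ≫ q) sq d hd hZ.isLocallyClosed, hS]
  exact (add_add_le_iff _ _ _ _ d).symm

end Groth.Agent.CharCycDim
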